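import Cfsg.Agent.Lib.Basic
import Cfsg.Agent.Lib.PComplement

/-!
# An element of prime order with centralizer generated by itself
-/

namespace CfsgLib.SelfCent

open Cfsg
open scoped Pointwise commutatorElement

set_option linter.unusedVariables false
set_option linter.style.haveILetI false
set_option linter.unusedSectionVars false

universe u

variable {G : Type u} [Group G] [Finite G] {p : ℕ} {x : G}

/-- The hypotheses. -/
structure Hyp (p : ℕ) (x : G) : Prop where
  prime : p.Prime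
  ord : orderOf x = p
  cent : Subgroup.centralizer ({x} : Set G) = Subgroup.zpowers x

theorem Hyp.ne_one (h : Hyp p x) : x ≠ 1 := fun e =>
  h.prime.ne_one (by rw [← h.ord, e, orderOf_one])

theorem Hyp.zpowers_eq (h : Hyp p x) {y : G} (hy : y ∈ Subgroup.zpowers x) (hy1 : y ≠ 1) :
    orderOf y = p ∧ Subgroup.zpowers y = Subgroup.zpowers x := by
  have hd : orderOf y ∣ p := by
    obtain ⟨i, rfl⟩ := hy
    refine orderOf_dvd_of_pow_eq_one ?_
    show (x ^ i) ^ p = 1
    rw [← zpow_natCast, ← zpow_mul, mul_comm, zpow_mul, zpow_natCast, ← h.ord, pow_orderOf_eq_one,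
      one_zpow]
  have ho : orderOf y = p :=
    ((Nat.dvd_prime h.prime).1 hd).resolve_left fun e => hy1 (orderOf_eq_one_iff.1 e)
  exact ⟨ho, Subgroup.eq_of_le_of_card_ge (Subgroup.zpowers_le.2 hy)
    (by rw [Nat.card_zpowers, Nat.card_zpowers, h.ord, ho])⟩

theorem Hyp.cent_mem (h : Hyp p x) {y g : G} (hy : y ∈ Subgroup.zpowers x) (hy1 : y ≠ 1)
    (hg : g * y = y * g) : g ∈ Subgroup.zpowers x := by
  rw [← h.cent, Subgroup.mem_centralizer_singleton_iff]
  obtain ⟨i, hi⟩ := Subgroup.mem_zpowers_iff.1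
    ((h.zpowers_eq hy hy1).2.symm ▸ Subgroup.mem_zpowers x : x ∈ Subgroup.zpowers y)
  rw [← hi]
  exact (Commute.zpow_right hg i).eq

theorem Hyp.exists_sylow (h : Hyp p x) :
    ∃ P : Sylow p G, (P : Subgroup G) = Subgroup.zpowers x := by
  haveI : Fact p.Prime := ⟨h.prime⟩
  have hX : IsPGroup p (Subgroup.zpowers x) :=
    IsPGroup.of_card (n := 1) (by rw [Nat.card_zpowers, h.ord, pow_one])
  obtain ⟨S, hS⟩ := hX.exists_le_sylow
  refine ⟨S, ?_⟩
  haveI : Nontrivial (S : Subgroup G) := (Subgroup.nontrivial_iff_ne_bot _).2 fun e =>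
    h.ne_one (Subgroup.mem_bot.1 (e ▸ hS (Subgroup.mem_zpowers x)))
  haveI := S.2.center_nontrivial
  obtain ⟨⟨z, hzc⟩, hz1⟩ := exists_ne (1 : Subgroup.center (S : Subgroup G))
  have hzx : (z : G) * x = x * (z : G) := congrArg Subtype.val
    (Subgroup.mem_center_iff.1 hzc ⟨x, hS (Subgroup.mem_zpowers x)⟩).symm
  have hzX : (z : G) ∈ Subgroup.zpowers x := by
    rw [← h.cent]
    exact Subgroup.mem_centralizer_singleton_iff.2 hzx
  have hz0 : (z : G) ≠ 1 := fun e => hz1 (Subtype.ext (Subtype.ext e))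
  refine le_antisymm (fun s hs => h.cent_mem hzX hz0 ?_) hS
  exact congrArg Subtype.val (Subgroup.mem_center_iff.1 hzc ⟨s, hs⟩)

/-- The normalizer of `⟨x⟩`. -/
abbrev nor (x : G) : Subgroup G := Subgroup.normalizer (Subgroup.zpowers x : Set G)

/-- `|N(⟨x⟩) : ⟨x⟩|`. -/
noncomputable def ee (x : G) : ℕ := (Subgroup.zpowers x).relIndex (nor x)

theorem Hyp.mem_normalizer (h : Hyp p x) {g y : G} (hy : y ∈ Subgroup.zpowers x) (hy1 : y ≠ 1)
    (hg : g * y * g⁻¹ ∈ Subgroup.zpowers x) : g ∈ nor x := by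
  have hne : g * y * g⁻¹ ≠ 1 := fun e => hy1 (conj_eq_one_iff.1 e)
  have e2 : (Subgroup.zpowers x).map (MulAut.conj g).toMonoidHom = Subgroup.zpowers x := by
    conv_lhs => rw [← (h.zpowers_eq hy hy1).2, MonoidHom.map_zpowers]
    exact (h.zpowers_eq hg hne).2
  refine Subgroup.mem_normalizer_iff.2 fun z => ?_
  conv_rhs => rw [← e2]
  exact (Subgroup.mem_map_iff_mem (f := (MulAut.conj g).toMonoidHom)
    (MulAut.conj g).injective (K := Subgroup.zpowers x) (x := z)).symm

/-- The number of classes of elements of order `p`. -/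
theorem Hyp.classes_mul (h : Hyp p x) :
    Nat.card {C : ConjClasses G // ∃ g ∈ C.carrier, orderOf g = p} * ee x = p - 1 := by
  classical
  haveI := Fintype.ofFinite G
  haveI : Fact p.Prime := ⟨h.prime⟩
  set X := Subgroup.zpowers x with hX
  set T := {C : ConjClasses G // ∃ g ∈ C.carrier, orderOf g = p} with hT
  let X' := {y : X // y ≠ 1}
  let F : X' → T := fun y => ⟨ConjClasses.mk ((y.1 : X) : G), (y.1 : G),
    ConjClasses.mem_carrier_mk, (h.zpowers_eq y.1.2 fun e => y.2 (Subtype.ext e)).1⟩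
  haveI : Fintype T := Fintype.ofFinite T
  have hcardX : Fintype.card X' = p - 1 := by
    rw [Fintype.card_subtype_compl, Fintype.card_subtype_eq, ← Nat.card_eq_fintype_card,
      Nat.card_zpowers, h.ord]
  rw [← hcardX, ← Finset.card_univ (α := X'),
    Finset.card_eq_sum_card_fiberwise (f := F) (t := (Finset.univ : Finset T))
      fun _ _ => Finset.mem_univ _]
  have hfib : ∀ C : T, (Finset.univ.filter fun y : X' => F y = C).card = ee x := by
    rintro ⟨C, g, hgC, hgo⟩
    obtain ⟨P, hP⟩ := h.exists_sylow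
    obtain ⟨a, ha⟩ : ∃ a : G, a * g * a⁻¹ ∈ X := by
      have hg : IsPGroup p (Subgroup.zpowers g) :=
        IsPGroup.of_card (n := 1) (by rw [Nat.card_zpowers, hgo, pow_one])
      obtain ⟨S, hS⟩ := hg.exists_le_sylow
      obtain ⟨a, ha⟩ := MulAction.exists_smul_eq G S P
      refine ⟨a, ?_⟩
      rw [hX, ← hP, ← ha, Sylow.coe_subgroup_smul, Subgroup.mem_pointwise_smul_iff_inv_smul_mem]
      simpa [mul_assoc] using hS (Subgroup.mem_zpowers g)
    set y0 := a * g * a⁻¹ with hy0
    have hy01 : y0 ≠ 1 := fun e => h.prime.ne_one (by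
      rw [← hgo, conj_eq_one_iff.1 e, orderOf_one])
    have hC : C = ConjClasses.mk y0 := by
      rw [← ConjClasses.mem_carrier_iff_mk_eq.1 hgC, ConjClasses.mk_eq_mk_iff_isConj]
      exact isConj_iff.2 ⟨a, rfl⟩
    rw [ee, Subgroup.relIndex, Subgroup.index, ← Fintype.card_subtype, ← Nat.card_eq_fintype_card]
    let N := nor x
    have hconj : ∀ n : N, (n : G) * y0 * (n : G)⁻¹ ∈ X := fun n =>
      (Subgroup.mem_normalizer_iff.1 n.2 y0).1 ha
    let φ : N → {y : X' // F y = ⟨C, g, hgC, hgo⟩} := fun n =>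
      ⟨⟨⟨(n : G) * y0 * (n : G)⁻¹, hconj n⟩, fun e => hy01 (conj_eq_one_iff.1 (congrArg Subtype.val e))⟩,
        Subtype.ext (by
          show ConjClasses.mk ((n : G) * y0 * (n : G)⁻¹) = C
          rw [hC, ConjClasses.mk_eq_mk_iff_isConj]
          exact (isConj_iff.2 ⟨(n : G), rfl⟩ : IsConj y0 ((n : G) * y0 * (n : G)⁻¹)).symm)⟩
    have hφ : ∀ m n : N, φ m = φ n ↔
        (m : N)⁻¹ * n ∈ (Subgroup.zpowers x).subgroupOf N := by
      intro m n
      rw [Subgroup.mem_subgroupOf, Subgroup.coe_mul, Subgroup.coe_inv]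
      constructor
      · intro e
        have e' : (m : G) * y0 * (m : G)⁻¹ = (n : G) * y0 * (n : G)⁻¹ :=
          congrArg (fun z => ((z.1.1 : X) : G)) e
        refine h.cent_mem ha hy01 ?_
        calc (m : G)⁻¹ * n * y0 = (m : G)⁻¹ * ((n : G) * y0 * (n : G)⁻¹) * n := by group
          _ = y0 * ((m : G)⁻¹ * n) := by rw [← e']; group
      · intro hm
        obtain ⟨i, hi⟩ := hm
        obtain ⟨j, hj⟩ := ha
        have e : (m : G)⁻¹ * n * y0 = y0 * ((m : G)⁻¹ * n) := by
          rw [← hi, ← hj]; exact ((Commute.refl x).zpow_zpow i j).eq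
        refine Subtype.ext (Subtype.ext (Subtype.ext ?_))
        show (m : G) * y0 * (m : G)⁻¹ = (n : G) * y0 * (n : G)⁻¹
        calc (m : G) * y0 * (m : G)⁻¹ = (m : G) * (y0 * ((m : G)⁻¹ * n)) * (n : G)⁻¹ := by group
          _ = (n : G) * y0 * (n : G)⁻¹ := by rw [← e]; group
    let ψ : N ⧸ (Subgroup.zpowers x).subgroupOf N → {y : X' // F y = ⟨C, g, hgC, hgo⟩} :=
      Quotient.lift φ fun m n hmn => (hφ m n).2 (QuotientGroup.leftRel_apply.1 hmn)
    refine (Nat.card_eq_of_bijective ψ ⟨?_, ?_⟩).symm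
    · intro a b
      induction a using QuotientGroup.induction_on with | _ m =>
      induction b using QuotientGroup.induction_on with | _ n =>
      intro e
      exact QuotientGroup.eq.2 ((hφ m n).1 e)
    · rintro ⟨⟨⟨y, hy⟩, hy1⟩, hF⟩
      have h2 : ConjClasses.mk y = ConjClasses.mk y0 := hC ▸ congrArg Subtype.val hF
      obtain ⟨b, hb⟩ := isConj_iff.1 (ConjClasses.mk_eq_mk_iff_isConj.1 h2.symm)
      exact ⟨((⟨b, h.mem_normalizer ha hy01 (hb.symm ▸ hy)⟩ : N) : N ⧸ _),
        Subtype.ext (Subtype.ext (Subtype.ext hb))⟩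
  rw [Finset.sum_congr rfl fun C _ => hfib C, Finset.sum_const, Finset.card_univ, smul_eq_mul,
    Nat.card_eq_fintype_card]

theorem Hyp.ee_pos (h : Hyp p x) : 0 < ee x :=
  Nat.pos_of_ne_zero Subgroup.index_ne_zero_of_finite

/-- Every element of a normal `p'`-subgroup is a commutator with `x`. -/
theorem Hyp.exists_comm (h : Hyp p x) {K : Subgroup G} [K.Normal]
    (hK : (Nat.card K).Coprime p) : ∀ {k : G}, k ∈ K → ∃ a : G, a ∈ K ∧ ⁅a, x⁆ = k := by
  have hKx : ∀ k ∈ K, k * x = x * k → k = 1 := fun k hk e => by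
    by_contra hk1
    have hkX := h.cent_mem (Subgroup.mem_zpowers x) h.ne_one e
    have hd : p ∣ Nat.card K :=
      (h.zpowers_eq hkX hk1).1 ▸ (Subgroup.orderOf_dvd_natCard K hk)
    exact h.prime.ne_one (Nat.eq_one_of_dvd_coprimes hK hd dvd_rfl)
  let φ : K → K := fun k => ⟨(k : G)⁻¹ * (x * k * x⁻¹),
    mul_mem (inv_mem k.2) ((inferInstance : K.Normal).conj_mem _ k.2 x)⟩
  have hinj : Function.Injective φ := by
    intro a b e
    have e' : (a : G)⁻¹ * (x * a * x⁻¹) = (b : G)⁻¹ * (x * b * x⁻¹) := congrArg Subtype.val e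
    have h1 := hKx ((b : G) * (a : G)⁻¹) (mul_mem b.2 (inv_mem a.2)) ?_
    · exact Subtype.ext (mul_inv_eq_one.1 h1).symm
    · calc (b : G) * (a : G)⁻¹ * x = b * ((a : G)⁻¹ * (x * a * x⁻¹)) * x * (a : G)⁻¹ := by group
        _ = x * ((b : G) * (a : G)⁻¹) := by rw [e']; group
  intro k hk
  obtain ⟨a, ha⟩ := (Finite.injective_iff_surjective.1 hinj) ⟨k, hk⟩
  refine ⟨(a : G)⁻¹, inv_mem a.2, ?_⟩
  have : (a : G)⁻¹ * (x * a * x⁻¹) = k := congrArg Subtype.val ha
  rw [← this, commutatorElement_def]; group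

theorem Hyp.le_of_mem (h : Hyp p x) {K L : Subgroup G} [K.Normal] [L.Normal]
    (hK : (Nat.card K).Coprime p) (hx : x ∈ L) : K ≤ L := by
  intro k hk
  obtain ⟨a, -, rfl⟩ := h.exists_comm hK hk
  rw [commutatorElement_def]
  exact mul_mem ((inferInstance : L.Normal).conj_mem _ hx a) (inv_mem hx)

theorem Hyp.mem_of_dvd (h : Hyp p x) {L : Subgroup G} [L.Normal] (hd : p ∣ Nat.card L) :
    x ∈ L := by
  haveI : Fact p.Prime := ⟨h.prime⟩
  obtain ⟨P, hP⟩ := h.exists_sylow
  obtain ⟨y, hy⟩ := exists_prime_orderOf_dvd_card' (G := L) p hd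
  have hy' : IsPGroup p (Subgroup.zpowers (y : G)) :=
    IsPGroup.of_card (n := 1) (by rw [Nat.card_zpowers, Subgroup.orderOf_coe, hy, pow_one])
  obtain ⟨S, hS⟩ := hy'.exists_le_sylow
  obtain ⟨a, ha⟩ := MulAction.exists_smul_eq G S P
  have h1 : a * (y : G) * a⁻¹ ∈ Subgroup.zpowers x := by
    rw [← hP, ← ha, Sylow.coe_subgroup_smul, Subgroup.mem_pointwise_smul_iff_inv_smul_mem]
    simpa [mul_assoc] using hS (Subgroup.mem_zpowers (y : G))
  have h2 : a * (y : G) * a⁻¹ ≠ 1 := fun e => h.prime.ne_one (by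
    rw [← hy, ← Subgroup.orderOf_coe, conj_eq_one_iff.1 e, orderOf_one])
  exact Subgroup.zpowers_le.1 ((h.zpowers_eq h1 h2).2 ▸
    Subgroup.zpowers_le.2 ((inferInstance : L.Normal).conj_mem _ y.2 a))

/-- A normal subgroup containing `x` contains the commutator subgroup. -/
theorem Hyp.commutator_le (h : Hyp p x) {L : Subgroup G} [L.Normal] (hx : x ∈ L) :
    commutator G ≤ L ∧ nor x ⊔ L = ⊤ ∧ L.index ∣ ee x := by
  haveI : Fact p.Prime := ⟨h.prime⟩
  obtain ⟨P, hP⟩ := h.exists_sylow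
  have hPL : (P : Subgroup G) ≤ L := hP ▸ Subgroup.zpowers_le.2 hx
  have htop : nor x ⊔ L = ⊤ := by
    have := Sylow.normalizer_sup_eq_top' (N := L) P hPL
    have e : Subgroup.normalizer ((P : Subgroup G) : Set G) = nor x := by rw [hP]
    exact e ▸ this
  refine ⟨?_, htop, ?_⟩
  · rw [commutator_def, Subgroup.commutator_le]
    have hgen : ∀ g : G, ∃ n ∈ nor x, n⁻¹ * g ∈ L := fun g => by
      have hg : g ∈ nor x ⊔ L := htop ▸ Subgroup.mem_top g
      obtain ⟨n, hn, l, hl, rfl⟩ := Subgroup.mem_sup_of_normal_right.1 hg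
      exact ⟨n, hn, by simpa using hl⟩
    intro a _ b _
    obtain ⟨n, hn, hna⟩ := hgen a
    obtain ⟨m, hm, hmb⟩ := hgen b
    rw [← QuotientGroup.eq_one_iff]
    have ea : (a : G ⧸ L) = n := (QuotientGroup.eq.2 hna).symm
    have eb : (b : G ⧸ L) = m := (QuotientGroup.eq.2 hmb).symm
    show QuotientGroup.mk' L ⁅a, b⁆ = 1
    rw [map_commutatorElement, QuotientGroup.mk'_apply, QuotientGroup.mk'_apply, ea, eb,
      ← QuotientGroup.mk'_apply, ← QuotientGroup.mk'_apply, ← map_commutatorElement,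
      QuotientGroup.mk'_apply, QuotientGroup.eq_one_iff]
    -- automorphisms of a cyclic group commute
    obtain ⟨i, hi⟩ := Subgroup.mem_zpowers_iff.1
      ((Subgroup.mem_normalizer_iff.1 hn x).1 (Subgroup.mem_zpowers x))
    obtain ⟨j, hj⟩ := Subgroup.mem_zpowers_iff.1
      ((Subgroup.mem_normalizer_iff.1 hm x).1 (Subgroup.mem_zpowers x))
    refine Subgroup.zpowers_le.2 hx (h.cent_mem (Subgroup.mem_zpowers x) h.ne_one ?_)
    have e1 : n * m * x * (n * m)⁻¹ = x ^ (i * j) := by
      rw [show n * m * x * (n * m)⁻¹ = n * (m * x * m⁻¹) * n⁻¹ by group, ← hj, ← conj_zpow, ← hi,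
        ← zpow_mul]
    have e2 : m * n * x * (m * n)⁻¹ = x ^ (i * j) := by
      rw [show m * n * x * (m * n)⁻¹ = m * (n * x * n⁻¹) * m⁻¹ by group, ← hi, ← conj_zpow, ← hj,
        ← zpow_mul, mul_comm]
    have e3 : (m * n)⁻¹ * (n * m) * x = x * ((m * n)⁻¹ * (n * m)) := by
      calc (m * n)⁻¹ * (n * m) * x
          = (m * n)⁻¹ * (n * m * x * (n * m)⁻¹) * (n * m) := by group
        _ = (m * n)⁻¹ * (m * n * x * (m * n)⁻¹) * (n * m) := by rw [e1, e2]
        _ = x * ((m * n)⁻¹ * (n * m)) := by group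
    calc ⁅n, m⁆ * x = n * m * ((m * n)⁻¹ * (n * m) * ((n * m)⁻¹ * x * (n * m))) * (n * m)⁻¹ := by
          rw [commutatorElement_def]; group
      _ = n * m * ((n * m)⁻¹ * x * (n * m) * ((m * n)⁻¹ * (n * m))) * (n * m)⁻¹ := by
          congr 2
          obtain ⟨l, hl⟩ := Subgroup.mem_zpowers_iff.1
            ((Subgroup.mem_normalizer_iff''.1 (mul_mem hn hm) x).1 (Subgroup.mem_zpowers x))
          rw [← hl]
          exact (Commute.zpow_right (e3 : Commute ((m * n)⁻¹ * (n * m)) x) l).eq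
      _ = x * ⁅n, m⁆ := by rw [commutatorElement_def]; group
  · have e1 : L.index = L.relIndex (nor x) := by
      rw [← Subgroup.relIndex_sup_right, htop, Subgroup.relIndex_top_right]
    rw [e1, ee, ← Subgroup.inf_relIndex_right L]
    exact Subgroup.relIndex_dvd_of_le_left _ (le_inf (Subgroup.zpowers_le.2 hx) Subgroup.le_normalizer)

theorem Hyp.mem_commutator (h : Hyp p x) (he : ee x ≠ 1) : x ∈ commutator G := by
  have hne : ¬ nor x ≤ Subgroup.zpowers x := fun hle => he (Subgroup.relIndex_eq_one.2 hle)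
  obtain ⟨n, hn, hnX⟩ := SetLike.not_le_iff_exists.1 hne
  have hc : ⁅n, x⁆ ∈ Subgroup.zpowers x := by
    rw [commutatorElement_def]
    exact mul_mem ((Subgroup.mem_normalizer_iff.1 hn x).1 (Subgroup.mem_zpowers x))
      (inv_mem (Subgroup.mem_zpowers x))
  have hc1 : ⁅n, x⁆ ≠ 1 := fun e => hnX (h.cent_mem (Subgroup.mem_zpowers x) h.ne_one
    (commutatorElement_eq_one_iff_mul_comm.1 e))
  refine (show Subgroup.zpowers x ≤ commutator G from ?_) (Subgroup.mem_zpowers x)
  rw [← (h.zpowers_eq hc hc1).2, Subgroup.zpowers_le, commutator_def]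
  exact Subgroup.commutator_mem_commutator (Subgroup.mem_top _) (Subgroup.mem_top _)

theorem Hyp.pPrimeCore_le_commutator (h : Hyp p x) (he : ee x ≠ 1) :
    pPrimeCore p G ≤ commutator G :=
  h.le_of_mem (CfsgLib.card_pPrimeCore_coprime p) (h.mem_commutator he)

/-- The case of a normal complement. -/
theorem Hyp.of_ee_one (h : Hyp p x) (he : ee x = 1) :
    commutator G = pPrimeCore p G ∧ (commutator G).index = p ∧
      Nat.card (commutator G) = (nor x).index := by
  haveI : Fact p.Prime := ⟨h.prime⟩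
  obtain ⟨P, hP⟩ := h.exists_sylow
  have hN : nor x = Subgroup.zpowers x :=
    le_antisymm (Subgroup.relIndex_eq_one.1 he) Subgroup.le_normalizer
  have hc := CfsgLib.hasNormalPComplement_of_normalizer_le_centralizer P (by
    rw [hP]
    refine hN.le.trans fun y hy z hz => ?_
    obtain ⟨i, rfl⟩ := hy
    obtain ⟨j, rfl⟩ := hz
    exact ((Commute.refl x).zpow_zpow j i).eq)
  have hcp := CfsgLib.pPrimeCore_isComplement'_sylow
    ((CfsgLib.hasNormalPComplement_iff).1 hc) P
  have hidx : (pPrimeCore p G).index = p := by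
    rw [hcp.symm.index_eq_card, hP, Nat.card_zpowers, h.ord]
  have hle : commutator G ≤ pPrimeCore p G := by
    have hq : Nat.card (G ⧸ pPrimeCore p G) = p := by rw [← Subgroup.index_eq_card, hidx]
    haveI := isCyclic_of_prime_card hq
    rw [commutator_def, Subgroup.commutator_le]
    intro a _ b _
    rw [← QuotientGroup.eq_one_iff]
    show QuotientGroup.mk' (pPrimeCore p G) ⁅a, b⁆ = 1
    rw [map_commutatorElement, commutatorElement_eq_one_iff_mul_comm]
    haveI := IsCyclic.isMulCommutative (α := G ⧸ pPrimeCore p G)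
    exact mul_comm' _ _
  have hge : pPrimeCore p G ≤ commutator G := by
    haveI : ((pPrimeCore p G) ⊓ commutator G).Normal := Subgroup.normal_inf_normal _ _
    intro k hk
    obtain ⟨a, -, ha⟩ := h.exists_comm (K := pPrimeCore p G) (CfsgLib.card_pPrimeCore_coprime p) hk
    rw [← ha, commutator_def]
    exact Subgroup.commutator_mem_commutator (Subgroup.mem_top _) (Subgroup.mem_top _)
  have heq := le_antisymm hle hge
  refine ⟨heq, heq ▸ hidx, ?_⟩
  rw [heq, hN]
  exact (hcp.index_eq_card.symm.trans (by rw [hP]) :)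

theorem Hyp.ee_eq_one_iff (h : Hyp p x) :
    ee x = 1 ↔ Nat.card {C : ConjClasses G // ∃ g ∈ C.carrier, orderOf g = p} = p - 1 := by
  have h1 := h.classes_mul
  have h2 := h.prime.two_le
  constructor
  · intro e; rwa [e, mul_one] at h1
  · intro e
    rw [e] at h1
    have h3 : (p - 1) * ee x = (p - 1) * 1 := by rw [h1, mul_one]
    exact Nat.eq_of_mul_eq_mul_left (by omega) h3

theorem mem_smul_conj {a c : G} {S : Subgroup G} :
    a * c * a⁻¹ ∈ MulAut.conj a • S ↔ c ∈ S := by
  rw [Subgroup.mem_pointwise_smul_iff_inv_smul_mem]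
  simp [mul_assoc]

theorem coprime_normal_le (hp : p.Prime) {R : Subgroup (commutator G)} [R.Normal]
    (hd : ¬ p ∣ Nat.card R) {w : commutator G} (hw : w ∈ R) : (w : G) ∈ pPrimeCore p G := by
  have h1 := CfsgLib.le_pPrimeCore (p := p) (N := R) (hp.coprime_iff_not_dvd.2 hd).symm
  have h2 := CfsgLib.le_pPrimeCore (p := p) (N := (pPrimeCore p (commutator G)).map (commutator G).subtype)
    (by rw [Subgroup.card_map_of_injective (commutator G).subtype_injective]
        exact CfsgLib.card_pPrimeCore_coprime p)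
  exact h2 ⟨w, h1 hw, rfl⟩

theorem Hyp.card_order_p (h : Hyp p x) :
    Nat.card {H : Subgroup G // Nat.card H = p} = (nor x).index := by
  haveI : Fact p.Prime := ⟨h.prime⟩
  obtain ⟨P, hP⟩ := h.exists_sylow
  have hc : ∀ Q : Sylow p G, Nat.card (Q : Subgroup G) = p := fun Q => by
    rw [Sylow.card_eq_multiplicity, ← Sylow.card_eq_multiplicity P, hP, Nat.card_zpowers, h.ord]
  let f : Sylow p G → {H : Subgroup G // Nat.card H = p} := fun Q => ⟨Q, hc Q⟩
  have hf : Function.Bijective f := by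
    refine ⟨fun a b e => Sylow.ext (congrArg Subtype.val e), fun H => ?_⟩
    obtain ⟨Q, hQ⟩ := (IsPGroup.of_card (n := 1)
      (H.2.trans (pow_one p).symm) : IsPGroup p H.1).exists_le_sylow
    exact ⟨Q, Subtype.ext (Subgroup.eq_of_le_of_card_ge hQ (by rw [hc Q, H.2])).symm⟩
  have e : Subgroup.normalizer ((P : Subgroup G) : Set G) = nor x := by rw [hP]
  rw [← Nat.card_eq_of_bijective f hf, P.card_eq_index_normalizer, ← e, Sylow.coe_coe]

theorem Hyp.relIndex_core (h : Hyp p x) {K : Subgroup G} [K.Normal]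
    (hK : (Nat.card K).Coprime p) :
    Nat.card K * (nor x ⊔ K).index = (nor x).index ∧ K.relIndex (Subgroup.zpowers x ⊔ K) = p := by
  have hKX : ∀ z ∈ Subgroup.zpowers x, z ∈ K → z = 1 := fun z hz hzK => by
    by_contra hz1
    exact h.prime.ne_one (Nat.eq_one_of_dvd_coprimes hK
      ((h.zpowers_eq hz hz1).1 ▸ Subgroup.orderOf_dvd_natCard K hzK) dvd_rfl)
  have hbot : nor x ⊓ K = ⊥ := by
    rw [eq_bot_iff]
    rintro k ⟨hkN, hkK⟩
    rw [Subgroup.mem_bot]
    refine hKX k (h.cent_mem (Subgroup.mem_zpowers x) h.ne_one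
      (commutatorElement_eq_one_iff_mul_comm.1 (hKX _ ?_ ?_))) hkK
    · rw [commutatorElement_def]
      exact mul_mem ((Subgroup.mem_normalizer_iff.1 hkN x).1 (Subgroup.mem_zpowers x))
        (inv_mem (Subgroup.mem_zpowers x))
    · rw [commutatorElement_def, mul_assoc k, mul_assoc]
      exact mul_mem hkK (by
        simpa [mul_assoc] using (inferInstance : K.Normal).conj_mem _ (inv_mem hkK) x)
  have h1 : (nor x).relIndex K = Nat.card K := by
    rw [← Subgroup.inf_relIndex_right, hbot, Subgroup.relIndex_bot_left]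
  have e1 := Subgroup.relIndex_mul_index (show nor x ⊓ K ≤ nor x from inf_le_left)
  rw [Subgroup.inf_relIndex_left, ← Subgroup.relIndex_sup_right] at e1
  have e2 := Subgroup.relIndex_mul_index (show nor x ⊓ K ≤ K from inf_le_right)
  rw [Subgroup.inf_relIndex_right, ← e1, h1,
    ← Subgroup.relIndex_mul_index (show K ≤ nor x ⊔ K from le_sup_right)] at e2
  refine ⟨mul_left_cancel₀ (a := K.relIndex (nor x ⊔ K)) Subgroup.index_ne_zero_of_finite ?_, ?_⟩
  · rw [← e2]; ring
  · rw [Subgroup.relIndex_sup_right, ← Subgroup.inf_relIndex_right,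
      (eq_bot_iff.2 fun z hz => Subgroup.mem_bot.2 (hKX z hz.2 hz.1) : K ⊓ Subgroup.zpowers x = ⊥),
      Subgroup.relIndex_bot_left, Nat.card_zpowers, h.ord]

/-- A `p'`-subgroup of order the number of Sylow subgroups: the derived series. -/
theorem Hyp.derived_of_sup (h : Hyp p x) (he : ee x ≠ 1)
    (htop : nor x ⊔ pPrimeCore p G = ⊤) :
    commutator G = Subgroup.zpowers x ⊔ pPrimeCore p G ∧
      ⁅commutator G, commutator G⁆ = pPrimeCore p G ∧
      Nat.card (pPrimeCore p G) = (nor x).index ∧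
      Nat.card (commutator G) = p * Nat.card (pPrimeCore p G) := by
  set K := pPrimeCore p G with hK
  set L := Subgroup.zpowers x ⊔ K with hL
  have hcop := CfsgLib.card_pPrimeCore_coprime (G := G) p
  have hn : L.Normal := by
    rw [← Subgroup.normalizer_eq_top_iff, eq_top_iff, ← htop]
    refine sup_le (fun n hn => ?_) (le_trans le_sup_right Subgroup.le_normalizer)
    refine Subgroup.mem_normalizer_iff.2 fun z => ?_
    have e : L.map (MulAut.conj n).toMonoidHom = L := by
      rw [hL, Subgroup.map_sup]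
      congr 1
      · ext w
        constructor
        · rintro ⟨v, hv, rfl⟩
          exact (Subgroup.mem_normalizer_iff.1 hn v).1 hv
        · intro hw
          exact ⟨n⁻¹ * w * n, (Subgroup.mem_normalizer_iff''.1 hn w).1 hw, by simp [mul_assoc]⟩
      · ext w
        constructor
        · rintro ⟨v, hv, rfl⟩
          exact (inferInstance : K.Normal).conj_mem v hv n
        · intro hw
          exact ⟨n⁻¹ * w * n, by simpa using (inferInstance : K.Normal).conj_mem w hw n⁻¹,
            by simp [mul_assoc]⟩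
    conv_rhs => rw [← e]
    exact (Subgroup.mem_map_iff_mem (f := (MulAut.conj n).toMonoidHom)
      (MulAut.conj n).injective (K := L) (x := z)).symm
  have hxL : x ∈ L := Subgroup.mem_sup_left (Subgroup.mem_zpowers x)
  have hxG := h.mem_commutator he
  have heq : commutator G = L := le_antisymm (h.commutator_le hxL).1
    (sup_le (Subgroup.zpowers_le.2 hxG) (h.le_of_mem hcop hxG))
  obtain ⟨hc1, hc2⟩ := h.relIndex_core (K := K) hcop
  rw [htop, Subgroup.index_top, mul_one] at hc1
  refine ⟨heq, le_antisymm ?_ ?_, hc1, ?_⟩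
  · rw [Subgroup.commutator_le, heq]
    intro a ha b hb
    rw [← QuotientGroup.eq_one_iff]
    show QuotientGroup.mk' K ⁅a, b⁆ = 1
    have hab : ∀ c ∈ L, QuotientGroup.mk' K c ∈ Subgroup.zpowers (QuotientGroup.mk' K x) := by
      intro c hc
      have := Subgroup.mem_map_of_mem (QuotientGroup.mk' K) hc
      rwa [hL, Subgroup.map_sup, MonoidHom.map_zpowers,
        (Subgroup.map_eq_bot_iff K).2 (le_of_eq (QuotientGroup.ker_mk' K).symm), sup_bot_eq] at this
    obtain ⟨i, hi⟩ := hab a ha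
    obtain ⟨j, hj⟩ := hab b hb
    rw [map_commutatorElement, commutatorElement_eq_one_iff_mul_comm, ← hi, ← hj]
    exact ((Commute.refl _).zpow_zpow i j).eq
  · intro k hk
    obtain ⟨a, ha, rfl⟩ := h.exists_comm hcop hk
    exact Subgroup.commutator_mem_commutator (h.le_of_mem hcop hxG ha) hxG
  · rw [heq, ← Subgroup.card_mul_index (K.subgroupOf L),
      Nat.card_congr (Subgroup.subgroupOfEquivOfLe (le_sup_right : K ≤ L)).toEquiv, mul_comm p]
    exact congrArg _ hc2

end CfsgLib.SelfCent
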